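import Groth.Agent.GrpdLib.HomField
import Groth.Agent.FieldBaseClosure.Basic
import Groth.Agent.GrpSchLib.FieldReduced
import Groth.Agent.H23.RedSub
import Groth.Agent.Triage.SchDense
import Mathlib.AlgebraicGeometry.Morphisms.SchemeTheoreticallyDominant

/-!
# Closed subgroupoids generated by the image of a morphism, over a field
-/

set_option backward.isDefEq.respectTransparency false
set_option backward.isDefEq.respectTransparency.types false

universe u

open CategoryTheory CategoryTheory.Limits AlgebraicGeometry Grpd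

namespace Groth.Agent.GrpdSub

variable {S : Scheme.{u}}

/-- The subgroupoid on a monomorphism stable under the operations. -/
noncomputable def sub (G : GroupoidScheme S) {Z : Scheme.{u}} (ζ : Z ⟶ G.R) [Mono ζ]
    (c' : pullback (ζ ≫ G.s) (ζ ≫ G.t) ⟶ Z) (e' : G.U ⟶ Z) (i' : Z ⟶ Z)
    (hc : c' ≫ ζ = pullback.map (ζ ≫ G.s) (ζ ≫ G.t) G.s G.t ζ ζ (𝟙 G.U) (Category.comp_id _) (Category.comp_id _) ≫ G.c)
    (he : e' ≫ ζ = G.e) (hi : i' ≫ ζ = ζ ≫ G.i) : GroupoidScheme S :=
  have key : ∀ {T : Scheme.{u}} (α β : T ⟶ Z) (h : α ≫ ζ ≫ G.s = β ≫ ζ ≫ G.t),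
      (pullback.lift α β h ≫ c') ≫ ζ =
        pullback.lift (α ≫ ζ) (β ≫ ζ) (by simpa only [Category.assoc] using h) ≫ G.c := fun α β h => by
    rw [Category.assoc, hc, ← Category.assoc]
    congr 1
    refine pullback.hom_ext ?_ ?_ <;> simp [pullback.map]
  { U := G.U
    R := Z
    pU := G.pU
    pR := ζ ≫ G.pR
    s := ζ ≫ G.s
    t := ζ ≫ G.t
    e := e'
    i := i'
    c := c'
    s_over := by rw [Category.assoc, G.s_over]
    t_over := by rw [Category.assoc, G.t_over]
    comp_s := fun α β h => by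
      rw [← Category.assoc, key α β h, G.comp_s, Category.assoc]
    comp_t := fun α β h => by
      rw [← Category.assoc, key α β h, G.comp_t, Category.assoc]
    assoc := fun α β γ h₁ h₂ => by
      refine (cancel_mono ζ).1 ((key _ γ _).trans (Eq.trans ?_ (key α _ _).symm))
      exact (GrpdLib.c_congr G _ (key α β h₁) rfl).trans ((G.assoc _ _ _ (by simpa only [Category.assoc] using h₁)
        (by simpa only [Category.assoc] using h₂)).trans (GrpdLib.c_congr G _ rfl (key β γ h₂).symm))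
    e_s := by rw [← Category.assoc, he, G.e_s]
    e_t := by rw [← Category.assoc, he, G.e_t]
    comp_e := fun α => by
      rw [← cancel_mono ζ, key]
      refine (GrpdLib.c_congr G _ rfl ?_).trans (G.comp_e (α ≫ ζ))
      simp only [Category.assoc, he]
    e_comp := fun α => by
      rw [← cancel_mono ζ, key]
      refine (GrpdLib.c_congr G _ ?_ rfl).trans (G.e_comp (α ≫ ζ))
      simp only [Category.assoc, he]
    i_s := by rw [← Category.assoc, hi, Category.assoc, G.i_s]
    i_t := by rw [← Category.assoc, hi, Category.assoc, G.i_t]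
    comp_i := fun α => by
      rw [← cancel_mono ζ, key]
      refine (GrpdLib.c_congr G _ rfl ?_).trans ((G.comp_i (α ≫ ζ)).trans ?_)
      · simp only [Category.assoc, hi]
      · simp only [Category.assoc, he]
    i_comp := fun α => by
      rw [← cancel_mono ζ, key]
      refine (GrpdLib.c_congr G _ ?_ rfl).trans ((G.i_comp (α ≫ ζ)).trans ?_)
      · simp only [Category.assoc, hi]
      · simp only [Category.assoc, he] }

variable (G : GroupoidScheme S) {Z : Scheme.{u}} (ζ : Z ⟶ G.R) [Mono ζ]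
    (c' : pullback (ζ ≫ G.s) (ζ ≫ G.t) ⟶ Z) (e' : G.U ⟶ Z) (i' : Z ⟶ Z)
    (hc : c' ≫ ζ = pullback.map (ζ ≫ G.s) (ζ ≫ G.t) G.s G.t ζ ζ (𝟙 G.U) (Category.comp_id _) (Category.comp_id _) ≫ G.c)
    (he : e' ≫ ζ = G.e) (hi : i' ≫ ζ = ζ ≫ G.i)

/-- The inclusion. -/
noncomputable def subι : GroupoidScheme.Hom (sub G ζ c' e' i' hc he hi) G where
  fU := 𝟙 G.U
  fR := ζ
  fU_over := Category.id_comp _
  comm_s := (Category.comp_id _).symm
  comm_t := (Category.comp_id _).symm
  comm_c α β h := by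
    show (pullback.lift α β h ≫ c') ≫ ζ = _
    rw [Category.assoc, hc, ← Category.assoc]
    congr 1
    refine pullback.hom_ext ?_ ?_
    · rw [Category.assoc, pullback.lift_fst, pullback.lift_fst, ← Category.assoc]
      exact congrArg (· ≫ ζ) (pullback.lift_fst _ _ _)
    · rw [Category.assoc, pullback.lift_snd, pullback.lift_snd, ← Category.assoc]
      exact congrArg (· ≫ ζ) (pullback.lift_snd _ _ _)

/-- Factoring a morphism through the subgroupoid. -/
noncomputable def subLift {G₁ : GroupoidScheme S} (a : GroupoidScheme.Hom G₁ G) (θ : G₁.R ⟶ Z) (hθ : θ ≫ ζ = a.fR) :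
    GroupoidScheme.Hom G₁ (sub G ζ c' e' i' hc he hi) where
  fU := a.fU
  fR := θ
  fU_over := a.fU_over
  comm_s := by show θ ≫ ζ ≫ G.s = _; rw [← Category.assoc, hθ, a.comm_s]
  comm_t := by show θ ≫ ζ ≫ G.t = _; rw [← Category.assoc, hθ, a.comm_t]
  comm_c α β h := by
    have h' := (subι G ζ c' e' i' hc he hi).comm_c (α ≫ θ) (β ≫ θ)
      (by show (α ≫ θ) ≫ ζ ≫ G.s = (β ≫ θ) ≫ ζ ≫ G.t
          rw [Category.assoc, Category.assoc, reassoc_of% hθ, reassoc_of% hθ, a.comm_s, a.comm_t, ← Category.assoc,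
            ← Category.assoc, h])
    refine (cancel_mono ζ).1 (Eq.trans ?_ h'.symm)
    exact (Category.assoc _ _ _).trans ((congrArg ((pullback.lift α β h ≫ G₁.c) ≫ ·) hθ).trans
      ((a.comm_c α β h).trans (GrpdLib.c_congr G _ ((congrArg (α ≫ ·) hθ.symm).trans (Category.assoc _ _ _).symm)
        ((congrArg (β ≫ ·) hθ.symm).trans (Category.assoc _ _ _).symm))))

/-- The pair groupoid. -/
noncomputable def pair {U : Scheme.{u}} (p : U ⟶ S) : GroupoidScheme S where
  U := U
  R := pullback p p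
  pU := p
  pR := pullback.fst p p ≫ p
  s := pullback.snd p p
  t := pullback.fst p p
  e := pullback.lift (𝟙 U) (𝟙 U) rfl
  i := pullback.lift (pullback.snd p p) (pullback.fst p p) pullback.condition.symm
  c := pullback.lift (pullback.fst _ _ ≫ pullback.fst p p) (pullback.snd _ _ ≫ pullback.snd p p) (by
    simp only [Category.assoc]
    rw [pullback.condition, ← Category.assoc, pullback.condition, Category.assoc, pullback.condition])
  s_over := pullback.condition.symm
  t_over := rfl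
  comp_s α β h := by simp
  comp_t α β h := by simp
  assoc α β γ h₁ h₂ := by apply pullback.hom_ext <;> simp
  e_s := by simp
  e_t := by simp
  comp_e α := by apply pullback.hom_ext <;> simp
  e_comp α := by apply pullback.hom_ext <;> simp
  i_s := by simp
  i_t := by simp
  comp_i α := by apply pullback.hom_ext <;> simp
  i_comp α := by apply pullback.hom_ext <;> simp

/-- The morphism to the pair groupoid. -/
noncomputable def toPair : GroupoidScheme.Hom G (pair G.pU) where
  fU := 𝟙 G.U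
  fR := G.j
  fU_over := Category.id_comp _
  comm_s := by show G.j ≫ pullback.snd _ _ = _; rw [GroupoidScheme.j, pullback.lift_snd, Category.comp_id]
  comm_t := by show G.j ≫ pullback.fst _ _ = _; rw [GroupoidScheme.j, pullback.lift_fst, Category.comp_id]
  comm_c α β h := by
    apply pullback.hom_ext
    · simp [pair, GroupoidScheme.j]
      rw [← Category.assoc, G.comp_t α β h]
    · simp [pair, GroupoidScheme.j]
      rw [← Category.assoc, G.comp_s α β h]

theorem hom_comm_i {G₁ G₂ : GroupoidScheme S} (a : GroupoidScheme.Hom G₁ G₂) : G₁.i ≫ a.fR = a.fR ≫ G₂.i := by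
  set x := a.fR with hx
  set y := G₁.i ≫ a.fR with hy
  have hxy : x ≫ G₂.s = y ≫ G₂.t := by
    rw [hy, hx, a.comm_s, Category.assoc, a.comm_t, ← Category.assoc, G₁.i_t]
  have h1 : pullback.lift x y hxy ≫ G₂.c = x ≫ G₂.t ≫ G₂.e := by
    have h := a.comm_c (𝟙 G₁.R) G₁.i (by rw [Category.id_comp, G₁.i_t])
    have h' := (GrpdLib.c_congr G₁ (by rw [Category.id_comp, G₁.i_t]) rfl (Category.id_comp G₁.i).symm).trans
      (G₁.comp_i (𝟙 G₁.R))
    rw [h', Category.id_comp, Category.assoc, GrpdLib.hom_comm_e a, reassoc_of% a.comm_t.symm] at h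
    rw [h]
    exact GrpdLib.c_congr G₂ _ (Category.id_comp _).symm rfl
  have h3 := G₂.assoc (x ≫ G₂.i) x y (by rw [Category.assoc, G₂.i_s]) hxy
  calc y = pullback.lift (y ≫ G₂.t ≫ G₂.e) y (by simp only [Category.assoc, G₂.e_s, Category.comp_id]) ≫ G₂.c :=
        (G₂.e_comp y).symm
    _ = _ := GrpdLib.c_congr G₂ _ (show y ≫ G₂.t ≫ G₂.e =
          pullback.lift (x ≫ G₂.i) x (by rw [Category.assoc, G₂.i_s]) ≫ G₂.c by
          rw [G₂.i_comp, ← Category.assoc, ← hxy, Category.assoc]) rfl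
    _ = _ := h3
    _ = pullback.lift (x ≫ G₂.i) ((x ≫ G₂.i) ≫ G₂.s ≫ G₂.e)
          (by simp only [Category.assoc, G₂.e_t, Category.comp_id]) ≫ G₂.c :=
        GrpdLib.c_congr G₂ _ rfl (h1.trans (by simp only [Category.assoc, reassoc_of% G₂.i_s]))
    _ = _ := G₂.comp_e _

theorem exists_factor_of_dominant {X Y T W : Scheme.{u}} (a : X ⟶ Y) [IsSchemeTheoreticallyDominant a] (g : Y ⟶ T)
    (η : W ⟶ T) [IsClosedImmersion η] (h : X ⟶ W) (w : h ≫ η = a ≫ g) : ∃ g', g' ≫ η = g := by
  have hle : η.ker ≤ g.ker := by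
    have := congrArg Scheme.Hom.ker w
    rw [Scheme.Hom.ker_comp a g, a.ker_eq_bot, Scheme.IdealSheafData.map_bot] at this
    rw [← this]
    exact Scheme.Hom.le_ker_comp h η
  exact ⟨_, IsClosedImmersion.lift_fac η g hle⟩

variable {G} in
/-- The scheme-theoretic image of a morphism of groupoids on a field is a subgroupoid. -/
theorem exists_sub_image (G₁ : GroupoidScheme S) (a : GroupoidScheme.Hom G₁ G) [IsIso a.fU] [QuasiCompact a.fR]
    (k : Type u) [Field k] (eU : G.U ≅ Spec (CommRingCat.of k)) :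
    ∃ (c' : pullback (a.fR.imageι ≫ G.s) (a.fR.imageι ≫ G.t) ⟶ a.fR.image) (e' : G.U ⟶ a.fR.image)
      (i' : a.fR.image ⟶ a.fR.image),
      c' ≫ a.fR.imageι = pullback.map (a.fR.imageι ≫ G.s) (a.fR.imageι ≫ G.t) G.s G.t a.fR.imageι a.fR.imageι
          (𝟙 G.U) (Category.comp_id _) (Category.comp_id _) ≫ G.c ∧
      e' ≫ a.fR.imageι = G.e ∧ i' ≫ a.fR.imageι = a.fR.imageι ≫ G.i := by
  haveI : Nonempty G.U := ⟨eU.inv (IsLocalRing.closedPoint k)⟩
  haveI : IsIntegral G.U := isIntegral_of_isOpenImmersion eU.hom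
  haveI : Subsingleton G.U := eU.hom.homeomorph.subsingleton
  let ζ := a.fR.imageι
  let θ := a.fR.toImage
  haveI : IsSchemeTheoreticallyDominant θ := Triage.SchDense.isSchemeTheoreticallyDominant_toImage a.fR
  have hθ : θ ≫ ζ = a.fR := Scheme.Hom.toImage_imageι _
  let u := ζ ≫ G.s
  let v := ζ ≫ G.t
  have hu : θ ≫ u = G₁.s ≫ a.fU := by rw [← Category.assoc, hθ, a.comm_s]
  have hv : θ ≫ v = G₁.t ≫ a.fU := by rw [← Category.assoc, hθ, a.comm_t]
  let m₁ : pullback (θ ≫ u) (θ ≫ v) ⟶ pullback u (θ ≫ v) :=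
    pullback.map _ _ _ _ θ (𝟙 _) (𝟙 _) (Category.comp_id _) (by simp)
  let m₂ : pullback u (θ ≫ v) ⟶ pullback u v :=
    pullback.map _ _ _ _ (𝟙 _) θ (𝟙 _) (by simp) (Category.comp_id _)
  haveI : IsSchemeTheoreticallyDominant m₁ := by
    refine IsSchemeTheoreticallyDominant.of_isPullback (f := θ) (g := pullback.fst u (θ ≫ v))
      (pX := pullback.fst _ _) ?_
    refine IsPullback.of_bot ?_ (pullback.lift_fst _ _ _).symm (IsPullback.of_hasPullback u (θ ≫ v))
    rw [pullback.lift_snd, Category.comp_id]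
    exact IsPullback.of_hasPullback _ _
  haveI : IsSchemeTheoreticallyDominant m₂ := by
    refine IsSchemeTheoreticallyDominant.of_isPullback (f := θ) (g := pullback.snd u v)
      (pX := pullback.snd _ _) ?_
    refine IsPullback.of_bot ?_ (pullback.lift_snd _ _ _).symm (IsPullback.of_hasPullback u v).flip
    rw [pullback.lift_fst, Category.comp_id]
    exact (IsPullback.of_hasPullback _ _).flip
  let φ : pullback (θ ≫ u) (θ ≫ v) ⟶ pullback G₁.s G₁.t := pullback.lift (pullback.fst _ _) (pullback.snd _ _) (by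
    rw [← cancel_mono a.fU, Category.assoc, Category.assoc, ← hu, ← hv, pullback.condition])
  obtain ⟨c', hc'⟩ := exists_factor_of_dominant (m₁ ≫ m₂)
    (pullback.map u v G.s G.t ζ ζ (𝟙 G.U) (Category.comp_id _) (Category.comp_id _) ≫ G.c) ζ (φ ≫ G₁.c ≫ θ) (by
      have hid : pullback.lift (pullback.fst G₁.s G₁.t) (pullback.snd G₁.s G₁.t) pullback.condition = 𝟙 _ :=
        pullback.hom_ext (by simp) (by simp)
      have h := a.comm_c (pullback.fst G₁.s G₁.t) (pullback.snd G₁.s G₁.t) pullback.condition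
      rw [hid, Category.id_comp] at h
      rw [Category.assoc φ, Category.assoc G₁.c, hθ, h, ← Category.assoc φ, ← Category.assoc (m₁ ≫ m₂)]
      congr 1
      apply pullback.hom_ext <;> simp [φ, m₁, m₂, hθ, ζ])
  obtain ⟨i', hi'⟩ := exists_factor_of_dominant θ (ζ ≫ G.i) ζ (G₁.i ≫ θ) (by
    rw [Category.assoc, hθ, hom_comm_i a, ← Category.assoc, hθ])
  exact ⟨c', inv a.fU ≫ G₁.e ≫ θ, i', hc', by
    rw [Category.assoc, Category.assoc, hθ, GrpdLib.hom_comm_e a, IsIso.inv_hom_id_assoc], hi'⟩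

variable {G} in
/-- The reduced closure of the image of a morphism of groupoids on a perfect field is a subgroupoid. -/
theorem exists_sub_closure (G₁ : GroupoidScheme S) (a : GroupoidScheme.Hom G₁ G) [IsIso a.fU]
    (k : Type u) [Field k] [PerfectField k] (eU : G.U ≅ Spec (CommRingCat.of k)) :
    let ζ := (Scheme.IdealSheafData.vanishingIdeal
      (⟨closure (Set.range a.fR), isClosed_closure⟩ : TopologicalSpace.Closeds G.R)).subschemeι
    ∃ (c' : pullback (ζ ≫ G.s) (ζ ≫ G.t) ⟶ _) (e' : G.U ⟶ _) (i' : _ ⟶ _),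
      c' ≫ ζ = pullback.map (ζ ≫ G.s) (ζ ≫ G.t) G.s G.t ζ ζ
          (𝟙 G.U) (Category.comp_id _) (Category.comp_id _) ≫ G.c ∧
      e' ≫ ζ = G.e ∧ i' ≫ ζ = ζ ≫ G.i := by
  intro ζ
  have hr : Set.range ζ = closure (Set.range a.fR) := H23.RedSub.range_vanishingIdeal _
  haveI : IsReduced G.U := isReduced_of_isOpenImmersion eU.hom
  haveI : IsReduced (pullback (ζ ≫ G.s) (ζ ≫ G.t)) := by
    haveI := GrpSchLib.isReduced_pullback_of_perfectField ((ζ ≫ G.s) ≫ eU.hom) ((ζ ≫ G.t) ≫ eU.hom)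
    exact isReduced_of_isOpenImmersion
      (pullback.map (ζ ≫ G.s) (ζ ≫ G.t) ((ζ ≫ G.s) ≫ eU.hom) ((ζ ≫ G.t) ≫ eU.hom) (𝟙 _) (𝟙 _) eU.hom
        (by simp) (by simp))
  obtain ⟨e', he'⟩ := H23.RedSub.exists_lift_closed G.e ζ (by
    rintro _ ⟨w, rfl⟩
    rw [hr]
    refine subset_closure ⟨G₁.e ((inv a.fU) w), ?_⟩
    rw [← Scheme.Hom.comp_apply, ← Scheme.Hom.comp_apply, GrpdLib.hom_comm_e a, IsIso.inv_hom_id_assoc])
  obtain ⟨i', hi'⟩ := H23.RedSub.exists_lift_closed (ζ ≫ G.i) ζ (by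
    rintro _ ⟨w, rfl⟩
    rw [hr, Scheme.Hom.comp_apply]
    refine map_mem_closure G.i.continuous (hr.subset ⟨w, rfl⟩) ?_
    rintro _ ⟨z, rfl⟩
    exact ⟨G₁.i z, by rw [← Scheme.Hom.comp_apply, hom_comm_i a, Scheme.Hom.comp_apply]⟩)
  obtain ⟨c', hc'⟩ := H23.RedSub.exists_lift_closed
    (pullback.map (ζ ≫ G.s) (ζ ≫ G.t) G.s G.t ζ ζ (𝟙 G.U) (Category.comp_id _) (Category.comp_id _) ≫ G.c) ζ (by
    rintro _ ⟨w, rfl⟩
    rw [hr, Scheme.Hom.comp_apply]
    let m := pullback.map G₁.s G₁.t G.s G.t a.fR a.fR a.fU a.comm_s.symm a.comm_t.symm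
    have hm : Set.range m = pullback.fst G.s G.t ⁻¹' Set.range a.fR ∩ pullback.snd G.s G.t ⁻¹' Set.range a.fR :=
      Scheme.Pullback.range_map _ _ _ _ _ _ _ _ _
    refine map_mem_closure G.c.continuous (FieldBaseClosure.mem_closure_inter eU G.s G.t (A := Set.range a.fR) (B := Set.range a.fR) _ ?_ ?_) fun q hq => ?_
    · rw [← Scheme.Hom.comp_apply, pullback.lift_fst, Scheme.Hom.comp_apply]
      exact hr.subset ⟨_, rfl⟩
    · rw [← Scheme.Hom.comp_apply, pullback.lift_snd, Scheme.Hom.comp_apply]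
      exact hr.subset ⟨_, rfl⟩
    · rw [← hm] at hq
      obtain ⟨z, rfl⟩ := hq
      refine ⟨G₁.c z, ?_⟩
      have hid : pullback.lift (pullback.fst G₁.s G₁.t) (pullback.snd G₁.s G₁.t) pullback.condition = 𝟙 _ :=
        pullback.hom_ext (by simp) (by simp)
      have h := a.comm_c (pullback.fst G₁.s G₁.t) (pullback.snd G₁.s G₁.t) pullback.condition
      rw [hid, Category.id_comp] at h
      rw [← Scheme.Hom.comp_apply, h, ← Scheme.Hom.comp_apply])
  exact ⟨c', e', i', hc', he', hi'⟩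

end Groth.Agent.GrpdSub
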